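import Groth.Agent.Brown43.Small
import Groth.Agent.CohDer42.BrownAdjoint
import Mathlib.CategoryTheory.Linear.Yoneda
import Mathlib.LinearAlgebra.FiniteDimensional.Basic
import Mathlib.RingTheory.Artinian.Module
import Mathlib.Algebra.Category.Grp.Limits
import Mathlib.Order.Zorn

/-! Finite dimensional cohomological functors on compact objects are representable. -/

universe w v u

open CategoryTheory Category Limits Pretriangulated Preadditive Opposite
open CategoryTheory.Pretriangulated.Opposite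
open scoped ZeroObject
open Groth.Agent.CohDer42

set_option autoImplicit false
set_option linter.unusedSectionVars false
set_option linter.style.haveILetI false

namespace Groth.Agent.Brown43

variable {k : Type w} [Field k] {D : Type u} [Category.{v} D] [Preadditive D] [Linear k D]
  [HasZeroObject D] [HasShift D ℤ] [∀ n : ℤ, (shiftFunctor D n).Additive] [Pretriangulated D]
  [IsTriangulated D] [HasCoproducts.{v} D]

variable (D) in
/-- The compact objects. -/
abbrev Cpt := ObjectProperty.FullSubcategory (fun K : D => CohDer.IsCompactObject K)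

variable (H : (Cpt D)ᵒᵖ ⥤ ModuleCat.{v} k) [H.Additive]

/-- The action on elements. -/
def ev {C C' : Cpt D} (u : C ⟶ C') : H.obj (op C') →ₗ[k] H.obj (op C) := (H.map u.op).hom

lemma ev_comp {C C' C'' : Cpt D} (u : C ⟶ C') (u' : C' ⟶ C'') (h : H.obj (op C'')) :
    ev H (u ≫ u') h = ev H u (ev H u' h) := by
  show (H.map (u ≫ u').op).hom h = _
  rw [op_comp, H.map_comp]
  rfl

lemma ev_id {C : Cpt D} (h : H.obj (op C)) : ev H (𝟙 C) h = h := by
  show (H.map (𝟙 C).op).hom h = _
  rw [op_id, H.map_id]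
  rfl

lemma ev_add {C C' : Cpt D} (u u' : C ⟶ C') (h : H.obj (op C')) :
    ev H (u + u') h = ev H u h + ev H u' h := by
  show (H.map (u + u').op).hom h = _
  rw [op_add, H.map_add]
  rfl

lemma ev_zero {C C' : Cpt D} (h : H.obj (op C')) : ev H (0 : C ⟶ C') h = 0 := by
  show (H.map (0 : C ⟶ C').op).hom h = _
  rw [op_zero, H.map_zero]
  rfl

lemma ev_neg {C C' : Cpt D} (u : C ⟶ C') (h : H.obj (op C')) : ev H (-u) h = -ev H u h := by
  apply eq_neg_of_add_eq_zero_left
  rw [← ev_add, neg_add_cancel, ev_zero]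

/-- Natural transformations `Hom(-, X) ⟶ H` on compact objects. -/
def nat (X : D) : AddSubgroup (∀ C : Cpt D, (C.obj ⟶ X) →+ H.obj (op C)) where
  carrier := {φ | ∀ (C C' : Cpt D) (u : C ⟶ C') (f : C'.obj ⟶ X), φ C (u.hom ≫ f) = ev H u (φ C' f)}
  zero_mem' := fun C C' u f => by simp
  add_mem' := fun {φ ψ} hφ hψ C C' u f => by simp [hφ C C' u f, hψ C C' u f]
  neg_mem' := fun {φ} hφ C C' u f => by simp [hφ C C' u f]

/-- Precomposition. -/
def natMap {X Y : D} (g : X ⟶ Y) : nat H Y →+ nat H X where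
  toFun φ := ⟨fun C => (φ.1 C).comp (Preadditive.rightComp C.obj g),
    fun C C' u f => by
      show φ.1 C ((u.hom ≫ f) ≫ g) = ev H u (φ.1 C' (f ≫ g))
      rw [assoc]
      exact φ.2 C C' u _⟩
  map_zero' := rfl
  map_add' _ _ := rfl

lemma natMap_apply {X Y : D} (g : X ⟶ Y) (φ : nat H Y) (C : Cpt D) (f : C.obj ⟶ X) :
    (natMap H g φ).1 C f = φ.1 C (f ≫ g) := rfl

lemma nat_ext {X : D} {φ ψ : nat H X} (h : ∀ C f, φ.1 C f = ψ.1 C f) : φ = ψ :=
  Subtype.ext (funext fun C => AddMonoidHom.ext (h C))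

variable (hsmall : ObjectProperty.EssentiallySmall.{v} (fun K : D => CohDer.IsCompactObject K))

include hsmall in
lemma small_nat (X : D) : Small.{v} (nat H X) := by
  obtain ⟨Q, hQ, hQ₁, hQ₂⟩ := ObjectProperty.EssentiallySmall.exists_small_le.{v}
    (fun K : D => CohDer.IsCompactObject K)
  haveI : Small.{v} (Subtype Q) := hQ
  refine small_of_injective (f := fun (φ : nat H X) (C : Subtype Q) (f : C.1 ⟶ X) =>
    φ.1 ⟨C.1, hQ₁ _ C.2⟩ f) fun φ ψ h => nat_ext H fun C f => ?_
  obtain ⟨C₀, hC₀, ⟨e⟩⟩ := hQ₂ _ C.property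
  let u : C ⟶ ⟨C₀, hQ₁ _ hC₀⟩ := ObjectProperty.homMk e.hom
  rw [show f = u.hom ≫ e.inv ≫ f from (e.hom_inv_id_assoc f).symm, φ.2, ψ.2]
  exact congrArg (ev H u) (congr_fun (congr_fun h ⟨C₀, hC₀⟩) (e.inv ≫ f))

/-- A partially defined natural transformation, as a graph. -/
structure Part (Z : D) where
  /-- the graph -/
  Γ : ∀ C : Cpt D, AddSubgroup ((C.obj ⟶ Z) × H.obj (op C))
  stable : ∀ {C C' : Cpt D} (u : C ⟶ C') (p : (C'.obj ⟶ Z) × H.obj (op C')),
    p ∈ Γ C' → (u.hom ≫ p.1, ev H u p.2) ∈ Γ C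
  single : ∀ {C : Cpt D} (a : H.obj (op C)), ((0 : C.obj ⟶ Z), a) ∈ Γ C → a = 0

instance (Z : D) : Preorder (Part H Z) where
  le P Q := ∀ C, P.Γ C ≤ Q.Γ C
  le_refl P C := le_refl _
  le_trans P Q R h h' C := (h C).trans (h' C)

variable (hcoh : ∀ T ∈ distTriang D, ∀ (h₁ : CohDer.IsCompactObject T.obj₁)
    (h₂ : CohDer.IsCompactObject T.obj₂) (h₃ : CohDer.IsCompactObject T.obj₃)
    (y : H.obj (op ⟨T.obj₂, h₂⟩)),
    H.map (ObjectProperty.homMk T.mor₁ : (⟨T.obj₁, h₁⟩ : Cpt D) ⟶ ⟨T.obj₂, h₂⟩).op y = 0 →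
      ∃ z : H.obj (op ⟨T.obj₃, h₃⟩),
        H.map (ObjectProperty.homMk T.mor₂ : (⟨T.obj₂, h₂⟩ : Cpt D) ⟶ ⟨T.obj₃, h₃⟩).op z = y)
  (hfin : ∀ X, Module.Finite k (H.obj X))

/-- A condition on the value at `g`. -/
def Cond {Z : D} (P : Part H Z) {C₀ : Cpt D} (g : C₀.obj ⟶ Z) :=
  Σ C : Cpt D, {p : (C ⟶ C₀) × H.obj (op C) // (p.1.hom ≫ g, p.2) ∈ P.Γ C}

/-- A solution of a condition. -/
def Sol {Z : D} {P : Part H Z} {C₀ : Cpt D} {g : C₀.obj ⟶ Z} (c : Cond H P g)
    (h : H.obj (op C₀)) : Prop := ev H c.2.1.1 h = c.2.1.2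

include hcoh in
lemma exists_sol {Z : D} {P : Part H Z} {C₀ : Cpt D} {g : C₀.obj ⟶ Z} (c : Cond H P g) :
    ∃ h, Sol H c h := by
  obtain ⟨C, ⟨⟨u, a⟩, hua⟩⟩ := c
  obtain ⟨K, w, δ, hT⟩ := distinguished_cocone_triangle₁ u.hom
  have hK : CohDer.IsCompactObject K :=
    isCompactObject_obj₂ (T := (Triangle.mk w u.hom δ).invRotate) (inv_rot_of_distTriang _ hT)
      (isCompactObject_shift C₀.property (-1)) C.property
  let w' : (⟨K, hK⟩ : Cpt D) ⟶ C := ObjectProperty.homMk w
  have h0 : ev H w' a = 0 := P.single _ (by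
    have := P.stable w' _ hua
    have hw : w ≫ u.hom = 0 := comp_distTriang_mor_zero₁₂ _ hT
    simpa [w', reassoc_of% hw] using this)
  obtain ⟨z, hz⟩ := hcoh _ hT hK C.property C₀.property a h0
  exact ⟨z, hz⟩

lemma exists_merge {Z : D} {P : Part H Z} {C₀ : Cpt D} {g : C₀.obj ⟶ Z} (c c' : Cond H P g) :
    ∃ c'' : Cond H P g, ∀ h, Sol H c'' h → Sol H c h ∧ Sol H c' h := by
  obtain ⟨C, ⟨⟨u, a⟩, hua⟩⟩ := c
  obtain ⟨C', ⟨⟨u', a'⟩, hua'⟩⟩ := c'
  have hB : CohDer.IsCompactObject (C.obj ⊞ C'.obj) :=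
    isCompactObject_obj₂ (binaryBiproductTriangle_distinguished C.obj C'.obj) C.property C'.property
  let B : Cpt D := ⟨_, hB⟩
  let p₁ : B ⟶ C := ObjectProperty.homMk biprod.fst
  let p₂ : B ⟶ C' := ObjectProperty.homMk biprod.snd
  let i₁ : C ⟶ B := ObjectProperty.homMk biprod.inl
  let i₂ : C' ⟶ B := ObjectProperty.homMk biprod.inr
  let d : B ⟶ C₀ := ObjectProperty.homMk (biprod.desc u.hom u'.hom)
  refine ⟨⟨B, ⟨(d, ev H p₁ a + ev H p₂ a'), ?_⟩⟩, fun h hh => ?_⟩
  · have := (P.Γ B).add_mem (P.stable p₁ _ hua) (P.stable p₂ _ hua')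
    have hd : d.hom ≫ g = p₁.hom ≫ u.hom ≫ g + p₂.hom ≫ u'.hom ≫ g := by
      simp [d, p₁, p₂, biprod.desc_eq, add_comp]
    rw [hd]
    exact this
  · replace hh : ev H d h = ev H p₁ a + ev H p₂ a' := hh
    constructor
    · have h1 := congrArg (ev H i₁) hh
      rw [map_add, ← ev_comp, ← ev_comp, ← ev_comp] at h1
      rw [show i₁ ≫ d = u from ObjectProperty.hom_ext _ (by simp [i₁, d]),
        show i₁ ≫ p₁ = 𝟙 C from ObjectProperty.hom_ext _ (by simp [i₁, p₁]),
        show i₁ ≫ p₂ = 0 from ObjectProperty.hom_ext _ (by simp [i₁, p₂]),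
        ev_id, ev_zero, add_zero] at h1
      exact h1
    · have h1 := congrArg (ev H i₂) hh
      rw [map_add, ← ev_comp, ← ev_comp, ← ev_comp] at h1
      rw [show i₂ ≫ d = u' from ObjectProperty.hom_ext _ (by simp [i₂, d]),
        show i₂ ≫ p₁ = 0 from ObjectProperty.hom_ext _ (by simp [i₂, p₁]),
        show i₂ ≫ p₂ = 𝟙 C' from ObjectProperty.hom_ext _ (by simp [i₂, p₂]),
        ev_id, ev_zero, zero_add] at h1
      exact h1

include hcoh hfin in
lemma exists_sol_all {Z : D} (P : Part H Z) {C₀ : Cpt D} (g : C₀.obj ⟶ Z) :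
    ∃ h, ∀ c : Cond H P g, Sol H c h := by
  classical
  haveI := hfin (op C₀)
  let c₀ : Cond H P g := ⟨C₀, ⟨(0, 0), by
    have : ((0 : C₀ ⟶ C₀).hom ≫ g, (0 : H.obj (op C₀))) = 0 := by simp
    rw [this]; exact (P.Γ C₀).zero_mem⟩⟩
  let K : Cond H P g → Submodule k (H.obj (op C₀)) := fun c => LinearMap.ker (ev H c.2.1.1)
  obtain ⟨_, ⟨c, rfl⟩, hmin⟩ :=
    (wellFounded_lt (α := Submodule k (H.obj (op C₀)))).has_min (Set.range K) ⟨_, c₀, rfl⟩
  obtain ⟨h, hh⟩ := exists_sol H hcoh c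
  refine ⟨h, fun c' => ?_⟩
  obtain ⟨c'', hc''⟩ := exists_merge H c c'
  obtain ⟨h', hh'⟩ := exists_sol H hcoh c''
  obtain ⟨hc, hc'⟩ := hc'' h' hh'
  have hle : K c'' ≤ K c := fun x hx => by
    have hx' : Sol H c'' (h' + x) := by
      show ev H c''.2.1.1 (h' + x) = c''.2.1.2
      rw [map_add, show ev H c''.2.1.1 x = 0 from hx, add_zero]
      exact hh'
    have := (hc'' _ hx').1
    show ev H c.2.1.1 x = 0
    rw [Sol, map_add, hc] at this
    exact add_left_cancel (this.trans (add_zero _).symm)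
  have heq : K c'' = K c := by
    by_contra hne
    exact hmin _ ⟨c'', rfl⟩ (lt_of_le_of_ne hle hne)
  have hd : h - h' ∈ K c'' := by
    rw [heq]
    show ev H c.2.1.1 (h - h') = 0
    rw [map_sub, hh, hc, sub_self]
  have := (hc'' h (by
    show ev H c''.2.1.1 h = c''.2.1.2
    rw [← sub_add_cancel h h', map_add, show ev H c''.2.1.1 (h - h') = 0 from hd, zero_add]
    exact hh')).2
  exact this

include hcoh hfin in
lemma exists_total {Z : D} (P : Part H Z) :
    ∃ ψ : nat H Z, ∀ C f a, (f, a) ∈ P.Γ C → ψ.1 C f = a := by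
  classical
  have hdir : ∀ (c : Set (Part H Z)), IsChain (· ≤ ·) c → ∀ C : Cpt D,
      Directed (· ≤ ·) (fun Q : c => Q.1.Γ C) := fun c hc C Q R =>
    (hc.total Q.2 R.2).elim (fun h => ⟨R, h C, le_rfl⟩) (fun h => ⟨Q, le_rfl, h C⟩)
  have hub : ∀ c : Set (Part H Z), IsChain (· ≤ ·) c → ∀ y ∈ c, ∃ ub, ∀ z ∈ c, z ≤ ub := fun c hc y hy => by
    refine ⟨⟨fun C => ⨆ Q : c, Q.1.Γ C, fun {C C'} u p hp => ?_, fun {C} a ha => ?_⟩, fun Q hQ C => ?_⟩
    · haveI : Nonempty c := ⟨⟨y, hy⟩⟩
      rw [AddSubgroup.mem_iSup_of_directed (hdir c hc _)] at hp ⊢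
      obtain ⟨Q, hQ⟩ := hp
      exact ⟨Q, Q.1.stable u p hQ⟩
    · haveI : Nonempty c := ⟨⟨y, hy⟩⟩
      rw [AddSubgroup.mem_iSup_of_directed (hdir c hc _)] at ha
      obtain ⟨Q, hQ⟩ := ha
      exact Q.1.single a hQ
    · exact le_iSup (fun R : c => R.1.Γ C) ⟨Q, hQ⟩
  obtain ⟨M, hPM, hM⟩ := zorn_le_nonempty_Ici₀ P (fun c _ hc y hy => hub c hc y hy) P le_rfl
  have htot : ∀ C (f : C.obj ⟶ Z), ∃ a, (f, a) ∈ M.Γ C := by
    intro C₀ g
    obtain ⟨h, hh⟩ := exists_sol_all H hcoh hfin M g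
    let Δ : ∀ C : Cpt D, (C ⟶ C₀) →+ (C.obj ⟶ Z) × H.obj (op C) := fun C =>
      { toFun := fun u => (u.hom ≫ g, ev H u h)
        map_zero' := by simp [ev_zero]
        map_add' := fun u u' => Prod.ext (add_comp _ _ _ u.hom u'.hom g) (ev_add H u u' h) }
    let M' : Part H Z :=
      { Γ := fun C => M.Γ C ⊔ (Δ C).range
        stable := fun {C C'} u p hp => by
          obtain ⟨q, hq, r, ⟨v, rfl⟩, rfl⟩ := AddSubgroup.mem_sup.1 hp
          refine AddSubgroup.mem_sup.2 ⟨_, M.stable u q hq, Δ C (u ≫ v), ⟨_, rfl⟩, ?_⟩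
          simp [Δ, ev_comp]
        single := fun {C} a ha => by
          obtain ⟨q, hq, r, ⟨v, rfl⟩, hqa⟩ := AddSubgroup.mem_sup.1 ha
          have h1 : q.1 + v.hom ≫ g = 0 := congrArg Prod.fst hqa
          have h2 : q.2 + ev H v h = a := congrArg Prod.snd hqa
          have hmem : ((-v).hom ≫ g, q.2) ∈ M.Γ C := by
            have : (-v).hom ≫ g = q.1 := by
              rw [eq_neg_of_add_eq_zero_left h1]
              exact neg_comp v.hom g
            rw [this]; exact hq
          have := hh ⟨C, ⟨(-v, q.2), hmem⟩⟩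
          change ev H (-v) h = q.2 at this
          rw [← h2, ← this, ev_neg, neg_add_cancel] }
    have hle : M ≤ M' := fun C => le_sup_left
    refine ⟨h, hM hle C₀ ?_⟩
    exact AddSubgroup.mem_sup_right ⟨𝟙 C₀, by simp [Δ, ev_id]⟩
  choose ψ hψ using htot
  have huniq : ∀ C f a b, (f, a) ∈ M.Γ C → (f, b) ∈ M.Γ C → a = b := fun C f a b ha hb => by
    have := (M.Γ C).sub_mem ha hb
    rw [Prod.mk_sub_mk, sub_self] at this
    exact sub_eq_zero.1 (M.single _ this)
  refine ⟨⟨fun C => AddMonoidHom.mk' (ψ C) fun f f' => huniq C _ _ _ (hψ C _)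
      ((M.Γ C).add_mem (hψ C f) (hψ C f')), fun C C' u f => huniq C _ _ _ (hψ C _)
      (M.stable u _ (hψ C' f))⟩, fun C f a ha => huniq C f _ a (hψ C f) (hPM C ha)⟩

include hcoh hfin in
lemma nat_exact {T : Triangle D} (hT : T ∈ distTriang D) (φ : nat H T.obj₂)
    (hφ : natMap H T.mor₁ φ = 0) : ∃ ψ, natMap H T.mor₂ ψ = φ := by
  let Δ : ∀ C : Cpt D, (C.obj ⟶ T.obj₂) →+ (C.obj ⟶ T.obj₃) × H.obj (op C) := fun C =>
    (Preadditive.rightComp C.obj T.mor₂).prod (φ.1 C)
  let P : Part H T.obj₃ :=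
    { Γ := fun C => (Δ C).range
      stable := fun {C C'} u p hp => by
        obtain ⟨x, rfl⟩ := hp
        exact ⟨u.hom ≫ x, Prod.ext (assoc _ _ _) (φ.2 C C' u x)⟩
      single := fun {C} a ha => by
        obtain ⟨x, hx⟩ := ha
        obtain ⟨y, rfl⟩ := Triangle.coyoneda_exact₂ _ hT x (congrArg Prod.fst hx)
        refine (show a = _ from (congrArg Prod.snd hx).symm).trans ?_
        exact DFunLike.congr_fun (congr_fun (congrArg Subtype.val hφ) C) y }
  obtain ⟨ψ, hψ⟩ := exists_total H hcoh hfin P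
  exact ⟨ψ, nat_ext H fun C x => hψ C _ _ ⟨x, rfl⟩⟩

/-- The contravariant functor `X ↦ Nat(Hom(-, X), H)`, made `v`-small. -/
noncomputable def extF : Dᵒᵖ ⥤ AddCommGrpCat.{v} :=
  haveI := fun X : D => small_nat H hsmall X
  { obj := fun X => AddCommGrpCat.of (Shrink.{v} (nat H X.unop))
    map := fun {X Y} g => AddCommGrpCat.ofHom ((Shrink.addEquiv.symm.toAddMonoidHom.comp
      (natMap H g.unop)).comp Shrink.addEquiv.toAddMonoidHom)
    map_id := fun X => by
      refine AddCommGrpCat.hom_ext (AddMonoidHom.ext fun x => Shrink.addEquiv.injective ?_)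
      simp only [AddCommGrpCat.hom_ofHom, AddCommGrpCat.hom_id, AddMonoidHom.comp_apply,
        AddEquiv.coe_toAddMonoidHom, AddEquiv.apply_symm_apply, AddMonoidHom.id_apply]
      exact nat_ext H fun C f => by rw [natMap_apply, unop_id, comp_id]
    map_comp := fun {X Y Z} g g' => by
      refine AddCommGrpCat.hom_ext (AddMonoidHom.ext fun x => Shrink.addEquiv.injective ?_)
      simp only [AddCommGrpCat.hom_ofHom, AddCommGrpCat.hom_comp, AddMonoidHom.comp_apply,
        AddEquiv.coe_toAddMonoidHom, AddEquiv.apply_symm_apply]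
      exact nat_ext H fun C f => by rw [natMap_apply, natMap_apply, natMap_apply, unop_comp, assoc] }

/-- The elements of `extF`. -/
noncomputable def extE (X : D) : (extF H hsmall).obj (op X) ≃+ nat H X :=
  haveI := small_nat H hsmall X
  Shrink.addEquiv

lemma extE_map {X Y : D} (g : X ⟶ Y) (x : (extF H hsmall).obj (op Y)) :
    extE H hsmall X (((extF H hsmall).map g.op).hom x) = natMap H g (extE H hsmall Y x) :=
  haveI := small_nat H hsmall X
  AddEquiv.apply_symm_apply _ _

include hcoh hfin in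
lemma isHomological_extF : (extF H hsmall).IsHomological := by
  haveI : (extF H hsmall).Additive := ⟨fun {X Y f g} =>
    AddCommGrpCat.hom_ext (AddMonoidHom.ext fun x => (extE H hsmall Y.unop).injective (by
      refine (extE_map H hsmall (f + g).unop x).trans ?_
      refine Eq.trans ?_ ((map_add (extE H hsmall Y.unop) _ _).trans
        (congrArg₂ (· + ·) (extE_map H hsmall f.unop x) (extE_map H hsmall g.unop x))).symm
      exact nat_ext H fun C q => by simp [natMap_apply, comp_add]))⟩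
  refine Functor.IsHomological.mk' _ fun T hT => ⟨T, Iso.refl _, ?_⟩
  rw [ShortComplex.ab_exact_iff]
  intro x hx
  have hT' := unop_distinguished T hT
  let T' := (triangleOpEquivalence D).inverse.obj T |>.unop
  have h0 : natMap H T.mor₂.unop (extE H hsmall _ x) = 0 :=
    (extE_map H hsmall T.mor₂.unop x).symm.trans ((congrArg (extE H hsmall _) hx).trans (map_zero _))
  obtain ⟨ψ, hψ⟩ := nat_exact H hcoh hfin hT' (extE H hsmall T.obj₂.unop x) h0
  refine ⟨(extE H hsmall T.obj₁.unop).symm ψ, (extE H hsmall T.obj₂.unop).injective ?_⟩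
  refine (extE_map H hsmall T.mor₁.unop _).trans ?_
  rw [AddEquiv.apply_symm_apply]
  exact hψ

lemma bijective_components {κ : Type v} (X : κ → D) :
    Function.Bijective (fun (φ : nat H (∐ X)) (i : κ) => natMap H (Sigma.ι X i) φ) := by
  classical
  constructor
  · intro φ ψ h
    refine nat_ext H fun C f => ?_
    obtain ⟨s, rfl⟩ := (C.property κ X).2 f
    induction s using DirectSum.induction_on with
    | zero => simp
    | of i x =>
      rw [homSum_of]
      exact DFunLike.congr_fun (congr_fun (congrArg Subtype.val (congr_fun h i)) C) x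
    | add a b ha hb => simp only [map_add, ha, hb]
  · intro φ
    let e := fun C : Cpt D => AddEquiv.ofBijective (CohDer.homSumToHomCoprod C.obj X) (C.property κ X)
    let θ : ∀ C : Cpt D, (C.obj ⟶ ∐ X) →+ H.obj (op C) := fun C =>
      (DirectSum.toAddMonoid fun i => (φ i).1 C).comp (e C).symm.toAddMonoidHom
    have hθ : ∀ C s, θ C (CohDer.homSumToHomCoprod C.obj X s) =
        DirectSum.toAddMonoid (fun i => (φ i).1 C) s := fun C s =>
      congrArg (DirectSum.toAddMonoid fun i => (φ i).1 C) ((e C).symm_apply_apply s)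
    refine ⟨⟨θ, fun C C' u f => ?_⟩, funext fun i => nat_ext H fun C f => ?_⟩
    · obtain ⟨s, rfl⟩ := (C'.property κ X).2 f
      rw [← homSum_natural, hθ, hθ]
      induction s using DirectSum.induction_on with
      | zero => simp
      | of i x =>
        rw [DirectSum.map_of, DirectSum.toAddMonoid_of, DirectSum.toAddMonoid_of]
        exact (φ i).2 C C' u x
      | add a b ha hb => rw [map_add, map_add, map_add, map_add, ha, hb]
    · show θ C (f ≫ Sigma.ι X i) = _
      rw [← homSum_of, hθ, DirectSum.toAddMonoid_of]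

lemma preservesProducts_extF (κ : Type v) : PreservesLimitsOfShape (Discrete κ) (extF H hsmall) := by
  suffices h : ∀ X : κ → D, PreservesLimit (Discrete.functor fun i => op (X i)) (extF H hsmall) from
    ⟨fun {K} =>
      haveI := h fun i => (K.obj ⟨i⟩).unop
      preservesLimit_of_iso_diagram _ (Discrete.natIsoFunctor (F := K)).symm⟩
  intro X
  refine preservesLimit_of_preserves_limit_cone (Cofan.IsColimit.op (coproductIsCoproduct X))
    ((isLimitMapConeFanMkEquiv (extF H hsmall) (fun i => op (X i)) (fun i => (Sigma.ι X i).op)).symm ?_)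
  have hb : Function.Bijective
      (fun (x : (extF H hsmall).obj (op (∐ X))) (i : κ) => ((extF H hsmall).map (Sigma.ι X i).op).hom x) := by
    have h1 := bijective_components H X
    constructor
    · intro x y h
      exact (extE H hsmall _).injective (h1.1 (funext fun i =>
        (extE_map H hsmall _ x).symm.trans ((congrArg (extE H hsmall _) (congr_fun h i)).trans
          (extE_map H hsmall _ y))))
    · intro z
      obtain ⟨φ, hφ⟩ := h1.2 fun i => extE H hsmall _ (z i)
      refine ⟨(extE H hsmall _).symm φ, funext fun i => (extE H hsmall _).injective ?_⟩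
      rw [extE_map, AddEquiv.apply_symm_apply]
      exact congr_fun hφ i
  let Φ := AddEquiv.ofBijective
    (AddMonoidHom.mk' (fun (x : (extF H hsmall).obj (op (∐ X))) (i : κ) =>
      ((extF H hsmall).map (Sigma.ι X i).op).hom x) (fun x y => funext fun i => map_add _ x y)) hb
  refine Fan.IsLimit.mk _ (fun s => AddCommGrpCat.ofHom (Φ.symm.toAddMonoidHom.comp
    (AddMonoidHom.pi fun i => (s.proj i).hom))) (fun s i => ?_) (fun s m hm => ?_)
  · refine AddCommGrpCat.hom_ext (AddMonoidHom.ext fun a => ?_)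
    exact congr_fun (Φ.apply_symm_apply (fun i => (s.proj i).hom a)) i
  · refine AddCommGrpCat.hom_ext (AddMonoidHom.ext fun a => Φ.injective ?_)
    refine Eq.trans ?_ (Φ.apply_symm_apply (fun i => (s.proj i).hom a)).symm
    exact funext fun i => ConcreteCategory.congr_hom (hm i) a

include hcoh hfin in
/-- Representability. -/
theorem representable (hD : CohDer.IsCompactlyGenerated D)
    (hlin : ∀ (X Y : Cpt D) (r : k) (f : X ⟶ Y), H.map (r • f).op = r • H.map f.op) :
    ∃ Y : D, Nonempty (H ≅ (ObjectProperty.ι _).op ⋙ (linearYoneda k D).obj Y) := by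
  have hs := essentiallySmall_compacts hD
  haveI := isHomological_extF H hs hcoh hfin
  haveI := preservesProducts_extF H hs
  have hrep := brown_compactlyGenerated hD (extF H hs)
  obtain ⟨Y, ⟨R⟩⟩ := hrep.has_representation
  let η : nat H Y := extE H hs Y (R.homEquiv (𝟙 Y))
  have hη : ∀ (Z : D) (g : Z ⟶ Y), extE H hs Z (R.homEquiv g) = natMap H g η := fun Z g => by
    refine (congrArg (extE H hs Z) (R.homEquiv_eq g)).trans ?_
    exact extE_map H hs g _
  let θ : ∀ C : Cpt D, (C.obj ⟶ Y) →ₗ[k] H.obj (op C) := fun C =>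
    { toFun := η.1 C
      map_add' := map_add _
      map_smul' := fun r f => by
        rw [RingHom.id_apply, show r • f = (r • 𝟙 C).hom ≫ f from
          (by erw [Linear.smul_comp, id_comp] : (r • 𝟙 C.obj) ≫ f = r • f).symm, η.2]
        show (H.map (r • 𝟙 C).op).hom _ = _
        rw [hlin, op_id, H.map_id]
        rfl }
  have hbij : ∀ C, Function.Bijective (θ C) := fun C => by
    have hev : Function.Bijective (fun φ : nat H C.obj => φ.1 C (𝟙 C.obj)) := by
      constructor
      · intro φ ψ h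
        simp only at h
        refine nat_ext H fun C' f => ?_
        rw [show f = (ObjectProperty.homMk f : C' ⟶ C).hom ≫ 𝟙 C.obj by simp, φ.2, ψ.2, h]
      · intro a
        refine ⟨⟨fun C' => AddMonoidHom.mk' (fun f => ev H (ObjectProperty.homMk f : C' ⟶ C) a)
          (fun f f' => ev_add H _ _ a), fun C' C'' u f => ev_comp H u _ a⟩, ?_⟩
        exact ev_id H a
    have : (θ C : (C.obj ⟶ Y) → H.obj (op C)) =
        (fun φ : nat H C.obj => φ.1 C (𝟙 C.obj)) ∘ (extE H hs C.obj) ∘ (fun f : C.obj ⟶ Y => R.homEquiv f) := by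
      funext f
      simp only [Function.comp_apply, hη, natMap_apply, id_comp]
      rfl
    rw [this]
    exact hev.comp ((extE H hs C.obj).bijective.comp R.homEquiv.bijective)
  refine ⟨Y, ⟨(NatIso.ofComponents (fun C => (LinearEquiv.ofBijective (θ C.unop) (hbij C.unop)).toModuleIso)
    (fun {C C'} u => ?_)).symm⟩⟩
  refine ModuleCat.hom_ext (LinearMap.ext fun f => ?_)
  exact η.2 C'.unop C.unop u.unop f

end Groth.Agent.Brown43
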