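import Groth.Agent.CohDer42.Classical
import Mathlib.CategoryTheory.ObjectProperty.Small

/-! The compact objects of a compactly generated category form an essentially small subcategory. -/

universe v u

open CategoryTheory Category Limits Pretriangulated Preadditive
open scoped ZeroObject
open Groth.Agent.CohDer42

set_option autoImplicit false
set_option linter.unusedSectionVars false
set_option linter.style.haveILetI false

namespace Groth.Agent.Brown43

variable {D : Type u} [Category.{v} D] [Preadditive D] [HasZeroObject D] [HasShift D ℤ]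
  [∀ n : ℤ, (shiftFunctor D n).Additive] [Pretriangulated D] [HasCoproducts.{v} D] [IsTriangulated D]

theorem classical_of_family [HasColimitsOfShape (Discrete ℕ) D] {ι : Type v} [Nonempty ι] (E : ι → D)
    (hE : ∀ i, CohDer.IsCompactObject (E i)) (hg : CohDer.Generates E)
    (X : D) (hX : CohDer.IsCompactObject X) :
    ObjectProperty.triangEnvelope (ObjectProperty.ofObj E) X := by
  classical
  let P : ObjectProperty D := ObjectProperty.ofObj E
  have hPc : ∀ Y, P Y → CohDer.IsCompactObject Y := by rintro _ ⟨i⟩; exact hE i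
  have hPne : P.Nonempty := ⟨E (Classical.arbitrary ι), ⟨_⟩⟩
  have hsum : ∀ {J : Type v} (m : J → ι × ℤ), FactorsCompact P (∐ fun j => (E (m j).1)⟦(m j).2⟧) := fun m =>
    factorsCompact_coproduct hPne _ fun j =>
      P.triangEnvelope.le_shift (m j).2 _ (P.le_triangEnvelope _ ⟨_⟩)
  let N := {Y : Σ Y : D, (Y ⟶ X) // FactorsCompact P Y.1}
  have hstep : ∀ M : N, ∃ (M' : N) (f : M.1.1 ⟶ M'.1.1), f ≫ M'.1.2 = M.1.2 ∧
      ∀ (i : ι) (m : ℤ) (e : (E i)⟦m⟧ ⟶ M.1.1), e ≫ M.1.2 = 0 → e ≫ f = 0 := by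
    rintro ⟨⟨Y, p⟩, hY⟩
    let J := {j : Σ m : ι × ULift.{v} ℤ, ((E m.1)⟦m.2.down⟧ ⟶ Y) // j.2 ≫ p = 0}
    let φ : (∐ fun j : J => (E j.1.1.1)⟦j.1.1.2.down⟧) ⟶ Y := Sigma.desc fun j => j.1.2
    obtain ⟨Y', f, δ, hT⟩ := distinguished_cocone_triangle φ
    obtain ⟨p', hp'⟩ : ∃ p', p = f ≫ p' := Triangle.yoneda_exact₂ _ hT p (by
      change φ ≫ p = 0
      apply Sigma.hom_ext
      intro j
      simpa [φ] using j.2)
    have hY' : FactorsCompact P Y' :=
      factorsCompact_ext hPne hPc (T := (Triangle.mk φ f δ).rotate) (rot_of_distTriang _ hT) hY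
        ((hsum (fun j : J => (j.1.1.1, j.1.1.2.down))).shift 1)
    refine ⟨⟨⟨Y', p'⟩, hY'⟩, f, hp'.symm, fun i m e he => ?_⟩
    have h0 : φ ≫ f = 0 := comp_distTriang_mor_zero₁₂ _ hT
    simpa [φ] using Sigma.ι (fun j : J => (E j.1.1.1)⟦j.1.1.2.down⟧) ⟨⟨⟨i, ⟨m⟩⟩, e⟩, he⟩ ≫= h0
  choose nxt fm hfm hkill using hstep
  let J₀ := Σ m : ι × ULift.{v} ℤ, ((E m.1)⟦m.2.down⟧ ⟶ X)
  let M₀ : N := ⟨⟨∐ fun j : J₀ => (E j.1.1)⟦j.1.2.down⟧, Sigma.desc fun j => j.2⟩, hsum (fun j : J₀ => (j.1.1, j.1.2.down))⟩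
  let M : ℕ → N := Nat.rec M₀ (fun _ M => nxt M)
  let Xs : ℕ → D := fun n => (M n).1.1
  let fs : ∀ n, Xs n ⟶ Xs (n + 1) := fun n => fm (M n)
  let ps : ∀ n, Xs n ⟶ X := fun n => (M n).1.2
  have hps : ∀ n, fs n ≫ ps (n + 1) = ps n := fun n => hfm (M n)
  let d : ∐ Xs ⟶ ∐ Xs := 𝟙 _ - Sigma.desc (fun n => fs n ≫ Sigma.ι Xs (n + 1))
  obtain ⟨Y, π, δ, hT⟩ := distinguished_cocone_triangle d
  have hdπ : d ≫ π = 0 := comp_distTriang_mor_zero₁₂ _ hT
  have hπ : ∀ n, Sigma.ι Xs n ≫ π = fs n ≫ Sigma.ι Xs (n + 1) ≫ π := fun n => by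
    have := Sigma.ι Xs n ≫= hdπ
    simpa [d, sub_comp, comp_sub, sub_eq_zero] using this
  obtain ⟨p, hp⟩ : ∃ p, Sigma.desc ps = π ≫ p := Triangle.yoneda_exact₂ _ hT _ (by
    change d ≫ Sigma.desc ps = 0
    apply Sigma.hom_ext
    intro n
    simp [d, sub_comp, comp_sub, hps])
  have hlift : ∀ C, CohDer.IsCompactObject C → ∀ g : C ⟶ Y,
      ∃ (m : ℕ) (w : C ⟶ Xs m), g = w ≫ Sigma.ι Xs m ≫ π := by
    intro C hC g
    have hδ : g ≫ δ = 0 := by
      refine eq_zero_of_shift_comp (T := Triangle.mk d π δ) 1 (fun u hu => ?_) _ ?_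
      · exact tower_inj (isCompactObject_shift hC (-1)) Xs fs u hu
      · exact (assoc _ _ _).trans ((congrArg (g ≫ ·) (comp_distTriang_mor_zero₃₁ _ hT)).trans comp_zero)
    obtain ⟨u, rfl⟩ : ∃ u : C ⟶ ∐ Xs, g = u ≫ π := Triangle.coyoneda_exact₃ _ hT g hδ
    exact tower_normal_form hC Xs fs π hπ u
  have hsurj : ∀ (i : ι) (m : ℤ) (g : (E i)⟦m⟧ ⟶ X), ∃ g' : (E i)⟦m⟧ ⟶ Y, g' ≫ p = g := fun i m g => by
    refine ⟨Sigma.ι (fun j : J₀ => (E j.1.1)⟦j.1.2.down⟧) ⟨⟨i, ⟨m⟩⟩, g⟩ ≫ Sigma.ι Xs 0 ≫ π, ?_⟩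
    rw [assoc, assoc, ← hp, Sigma.ι_desc]
    simp [ps, M, M₀]
  have hinj : ∀ (i : ι) (m : ℤ) (g : (E i)⟦m⟧ ⟶ Y), g ≫ p = 0 → g = 0 := fun i m g hg => by
    obtain ⟨n, w, rfl⟩ := hlift _ (isCompactObject_shift (hE i) m) g
    rw [assoc, assoc, ← hp, Sigma.ι_desc] at hg
    rw [hπ n, reassoc_of% (hkill (M n) i m w hg), zero_comp]
  have hiso : IsIso p := by
    obtain ⟨C, q, ε, hTp⟩ := distinguished_cocone_triangle p
    apply (Triangle.isZero₃_iff_isIso₁ _ hTp).1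
    refine hg C fun i n v => ?_
    let w := (shiftFunctorCompIsoId D n (-n) (add_neg_cancel n)).hom.app C
    have h3 : v⟦-n⟧' ≫ w = 0 := by
      let v' : (E i)⟦-n⟧ ⟶ C := v⟦-n⟧' ≫ w
      change v' = 0
      have hε : v' ≫ ε = 0 := by
        refine eq_zero_of_shift_comp (T := Triangle.mk p q ε) 1 (fun u hu => ?_) _ ?_
        · have := hinj i (-n + -1) ((shiftFunctorAdd D (-n) (-1 : ℤ)).hom.app (E i) ≫ u)
            ((assoc _ _ _).trans ((congrArg (_ ≫ ·) hu).trans comp_zero))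
          exact (cancel_epi ((shiftFunctorAdd D (-n) (-1 : ℤ)).hom.app (E i))).1 (this.trans comp_zero.symm)
        · exact (assoc _ _ _).trans ((congrArg (v' ≫ ·) (comp_distTriang_mor_zero₃₁ _ hTp)).trans comp_zero)
      obtain ⟨g, hg'⟩ : ∃ g : (E i)⟦-n⟧ ⟶ X, v' = g ≫ q := Triangle.coyoneda_exact₃ _ hTp v' hε
      obtain ⟨g', rfl⟩ := hsurj i _ g
      have h0 : p ≫ q = 0 := comp_distTriang_mor_zero₁₂ _ hTp
      rw [hg', assoc, h0, comp_zero]
    apply (shiftFunctor D (-n)).map_injective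
    rw [Functor.map_zero]
    exact (cancel_mono w).1 (h3.trans zero_comp.symm)
  obtain ⟨m, w, hw⟩ := hlift X hX (inv p)
  obtain ⟨W, a, b, hW, hab⟩ := (M m).2 X hX w
  refine P.triangEnvelope.prop_of_retract ⟨a, b ≫ ps m, ?_⟩ hW
  rw [reassoc_of% hab]
  have := hw =≫ p
  rw [IsIso.inv_hom_id, assoc, assoc, ← hp, Sigma.ι_desc] at this
  exact this.symm

theorem essentiallySmall_extensionProduct (P Q : ObjectProperty D)
    [ObjectProperty.EssentiallySmall.{v} P] [ObjectProperty.EssentiallySmall.{v} Q] :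
    ObjectProperty.EssentiallySmall.{v} (ObjectProperty.extensionProduct P Q) where
  exists_small_le' := by
    obtain ⟨P', _, -, hP⟩ := ObjectProperty.EssentiallySmall.exists_small_le.{v} P
    obtain ⟨Q', _, -, hQ⟩ := ObjectProperty.EssentiallySmall.exists_small_le.{v} Q
    let α := Σ (Y : Subtype P') (Z : Subtype Q'), (Z.1 ⟶ Y.1⟦(1 : ℤ)⟧)
    choose X f g hT using fun a : α => distinguished_cocone_triangle₂ a.2.2
    refine ⟨ObjectProperty.ofObj X, inferInstance, ?_⟩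
    rintro W ⟨Y, Z, a, b, c, hW, hY, hZ⟩
    obtain ⟨Y', hY', ⟨eY⟩⟩ := hP _ hY
    obtain ⟨Z', hZ', ⟨eZ⟩⟩ := hQ _ hZ
    let x : α := ⟨⟨Y', hY'⟩, ⟨Z', hZ'⟩, eZ.inv ≫ c ≫ eY.hom⟦(1 : ℤ)⟧'⟩
    refine ⟨X x, ⟨x⟩, ⟨Triangle.π₂.mapIso
      (isoTriangleOfIso₁₃ (Triangle.mk a b c) _ hW (hT x) eY eZ (by
        show c ≫ _ = _ ≫ eZ.inv ≫ c ≫ _
        rw [Iso.hom_inv_id_assoc]; rfl))⟩⟩

theorem essentiallySmall_shiftClosure (P : ObjectProperty D) [ObjectProperty.EssentiallySmall.{v} P] :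
    ObjectProperty.EssentiallySmall.{v} (P.shiftClosure ℤ) where
  exists_small_le' := by
    obtain ⟨P', _, -, hP⟩ := ObjectProperty.EssentiallySmall.exists_small_le.{v} P
    refine ⟨ObjectProperty.ofObj (fun a : Subtype P' × ℤ => a.1.1⟦a.2⟧), inferInstance, ?_⟩
    rintro X ⟨Y, n, e, hY⟩
    obtain ⟨Y', hY', ⟨eY⟩⟩ := hP _ hY
    exact ⟨_, ⟨(⟨Y', hY'⟩, n)⟩, ⟨e ≪≫ (shiftFunctor D n).mapIso eY⟩⟩

theorem essentiallySmall_envelope (P : ObjectProperty D) [ObjectProperty.EssentiallySmall.{v} P] :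
    ObjectProperty.EssentiallySmall.{v} P.triangEnvelope := by
  haveI := essentiallySmall_shiftClosure P
  have h : ∀ n, ObjectProperty.EssentiallySmall.{v} (P.triangEnvelopeIter n) := fun n => by
    induction n with
    | zero => rw [ObjectProperty.triangEnvelopeIter_zero]; infer_instance
    | succ n ih =>
      rw [ObjectProperty.triangEnvelopeIter_succ]
      haveI := ih
      haveI := essentiallySmall_extensionProduct
        ((P.shiftClosure ℤ).binaryProductsClosure.retractClosure) (P.triangEnvelopeIter n)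
      infer_instance
  haveI := h
  unfold ObjectProperty.triangEnvelope
  infer_instance

theorem essentiallySmall_compacts (hD : CohDer.IsCompactlyGenerated D) :
    ObjectProperty.EssentiallySmall.{v} (fun K : D => CohDer.IsCompactObject K) := by
  obtain ⟨ι, E, hc, hg⟩ := hD
  haveI : HasColimitsOfShape (Discrete ℕ) D :=
    hasColimitsOfShape_of_equivalence (Discrete.equivalence (Equiv.ulift.{v} (α := ℕ)))
  let E' : Option ι → D := fun o => o.elim 0 E
  have hc' : ∀ o, CohDer.IsCompactObject (E' o) := by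
    rintro (_ | i)
    · exact isCompactObject_zero (isZero_zero D)
    · exact hc i
  have hg' : CohDer.Generates E' := fun K h => hg K fun i => h (some i)
  haveI := essentiallySmall_envelope (ObjectProperty.ofObj E')
  exact ObjectProperty.EssentiallySmall.of_le
    (Q := (ObjectProperty.ofObj E').triangEnvelope) fun X hX => classical_of_family E' hc' hg' X hX

end Groth.Agent.Brown43
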